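import Cfsg.Agent.Lib.Helper3.J2a.L1D
import Cfsg.Agent.Lib.Helper3.J2a.Net

set_option autoImplicit false
set_option maxRecDepth 100000

namespace Cfsg.Agent.Lib.Helper3.J2a.L1

open Cfsg.Agent.Lib.Helper11 Cfsg.Agent.Lib.Helper3

set_option maxHeartbeats 0
set_option Elab.async false

noncomputable def fc (i : ℕ) : ℕ := (fc0_0 i)
noncomputable def sc (i : ℕ) : ℕ := (sc0_0 i)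
noncomputable def nc (i : ℕ) : ℕ := (nc0_0 i)
noncomputable def cc (i : ℕ) : ℕ := (cc0_0 i)

def isH (l : ℕ) : Bool := decide (l ∈ [4, 6])
def gens : List ℕ := [1, 2]
def hl : List ℕ := [4, 6]
def dl : List (List ℕ × ℕ) := [([2], 3), ([3, 1, 3, 1, 2, 1, 3, 1, 2, 1, 2, 1, 3, 1, 3, 1, 2], 5), ([5], 4), ([1, 2, 1, 3, 1, 3, 1, 2, 1, 2, 1, 3, 1, 2, 1, 3, 1, 2, 1], 7), ([7], 6), ([4, 4], 9), ([9], 8), ([7, 7, 4, 4, 6, 6], 11), ([11], 10)]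
def BR_0 : List (List ℕ) := [[], [3, 1, 3, 1, 2, 1, 3, 1, 2, 1, 2, 1, 3, 1, 3, 1, 2, 5], [1, 2, 1, 3, 1, 3, 1, 2, 1, 2, 1, 3, 1, 2, 1, 3, 1, 2, 1, 7], [4, 4, 9], [7, 7, 4, 4, 6, 6, 11], [2, 2, 2], [1, 2, 1, 2, 1, 2, 1, 2, 1, 2, 1, 2, 1, 2], [1, 3, 1, 3, 1, 3, 1, 3, 1, 3, 1, 3, 1, 3], [1, 2, 2, 1, 2, 2, 1, 2, 2, 1, 2, 2, 1, 2, 2, 1, 2, 2, 1, 2, 2], [1, 3, 3, 1, 3, 3, 1, 3, 3, 1, 3, 3, 1, 3, 3, 1, 3, 3, 1, 3, 3], [1, 2, 2, 2, 1, 2, 2, 2], [1, 3, 3, 3, 1, 3, 3, 3], [1, 2, 1, 3, 1, 2, 1, 3, 1, 2, 1, 3, 1, 2, 1, 2, 1, 3, 10, 4, 6, 4, 7], [2, 1, 3, 1, 2, 1, 3, 1, 2, 1, 3, 1, 2, 1, 2, 1, 3, 1, 2, 1, 3, 1, 3, 1, 3, 8, 11, 8, 6, 5, 6], [1, 2, 1, 2, 1, 3, 1, 2, 1, 2, 1, 3, 1, 2, 1, 3, 1, 3, 1, 2, 1, 3, 1, 3, 1, 11, 8, 6,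 4, 6, 4, 6], [2, 1, 2, 1, 3, 1, 2, 1, 3, 1, 3, 1, 2, 1, 3, 1, 3, 1, 2, 1, 2, 1, 3, 1, 3, 8, 11, 7, 7, 4, 7], [1, 3, 1, 2, 1, 2, 1, 3, 1, 3, 1, 2, 1, 3, 1, 2, 1, 2, 1, 3, 1, 3, 1, 2, 1, 10, 9, 7, 7]]
def BR : List (List ℕ) := BR_0
set_option maxRecDepth 10000000 in
noncomputable def rt : RT := (.node 37 (.node 18 (.node 9 (.node 4 (.node 2 (.node 1 (.leaf 0 0 []) (.leaf 1 17 [5, 3, 1, 3, 1, 2, 1, 3, 1, 2, 1, 2, 1, 3, 1, 3, 1, 2])) (.node 3 (.leaf 2 9 [2, 1, 3, 1, 2, 1, 3, 1, 2, 1, 7, 1, 2, 1, 3, 1, 3, 1, 2, 1]) (.leaf 2 19 [7, 1, 2, 1, 3, 1, 3, 1, 2, 1, 2, 1, 3, 1, 2, 1, 3, 1, 2, 1]))) (.node 6 (.node 5 (.leaf 6 7 [2, 1, 2, 1, 2, 1, 2, 1, 2, 1, 2, 1, 2, 1]) (.leaf 7 7 [3, 1, 3, 1, 3, 1, 3, 1, 3, 1, 3, 1, 3, 1]))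 (.node 7 (.leaf 5 1 [2, 2, 2]) (.node 8 (.leaf 10 6 [2, 2, 1, 2, 2, 2, 1, 2]) (.leaf 1 8 [2, 1, 2, 1, 3, 1, 3, 1, 2, 5, 3, 1, 3, 1, 2, 1, 3, 1]))))) (.node 13 (.node 11 (.node 10 (.leaf 7 6 [1, 3, 1, 3, 1, 3, 1, 3, 1, 3, 1, 3, 1, 3]) (.leaf 9 7 [3, 3, 1, 3, 3, 1, 3, 3, 1, 3, 3, 1, 3, 3, 1, 3, 3, 1, 3, 3, 1])) (.node 12 (.leaf 9 17 [3, 1, 3, 3, 1, 3, 3, 1, 3, 3, 1, 3, 3, 1, 3, 3, 1, 3, 3, 1, 3]) (.leaf 7 8 [1, 3, 1, 3, 1, 3, 1, 3, 1, 3, 1, 3, 1, 3]))) (.node 15 (.node 14 (.leaf 11 6 [3, 3, 1, 3, 3, 3, 1, 3]) (.leaf 7 5 [3, 1, 3, 1, 3, 1, 3, 1, 3, 1, 3, 1, 3, 1])) (.node 16 (.leaf 8 17 [2, 1, 2, 2, 1, 2, 2, 1, 2, 2, 1, 2, 2, 1, 2, 2, 1, 2, 2, 1, 2]) (.node 17 (.leaf 3 2 [9, 4, 4]) (.leaf 4 6 [11, 7, 7, 4, 4, 6, 6]))))))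 (.node 27 (.node 22 (.node 20 (.node 19 (.leaf 12 9 [2, 1, 3, 1, 2, 1, 2, 1, 3, 10, 4, 6, 4, 7, 1, 2, 1, 3, 1, 2, 1, 3, 1]) (.leaf 5 2 [2, 2, 2])) (.node 21 (.leaf 6 9 [2, 1, 2, 1, 2, 1, 2, 1, 2, 1, 2, 1, 2, 1]) (.leaf 8 3 [1, 2, 2, 1, 2, 2, 1, 2, 2, 1, 2, 2, 1, 2, 2, 1, 2, 2, 1, 2, 2]))) (.node 24 (.node 23 (.leaf 8 15 [1, 2, 2, 1, 2, 2, 1, 2, 2, 1, 2, 2, 1, 2, 2, 1, 2, 2, 1, 2, 2]) (.leaf 8 10 [2, 2, 1, 2, 2, 1, 2, 2, 1, 2, 2, 1, 2, 2, 1, 2, 2, 1, 2, 2, 1])) (.node 25 (.leaf 13 12 [2, 1, 2, 1, 3, 1, 2, 1, 3, 1, 3, 1, 3, 8, 11, 8, 6, 5, 6, 2, 1, 3, 1, 2, 1, 3, 1, 2, 1, 3, 1]) (.node 26 (.leaf 6 10 [1, 2, 1, 2, 1, 2, 1, 2, 1, 2, 1, 2, 1, 2]) (.leaf 12 18 [10, 4, 6, 4, 7, 1, 2, 1, 3, 1, 2, 1, 3, 1, 2, 1, 3, 1, 2,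 1, 2, 1, 3]))))) (.node 32 (.node 29 (.node 28 (.leaf 14 12 [1, 2, 1, 3, 1, 3, 1, 2, 1, 3, 1, 3, 1, 11, 8, 6, 4, 6, 4, 6, 1, 2, 1, 2, 1, 3, 1, 2, 1, 2, 1, 3]) (.leaf 6 8 [1, 2, 1, 2, 1, 2, 1, 2, 1, 2, 1, 2, 1, 2])) (.node 30 (.leaf 15 12 [2, 1, 3, 1, 3, 1, 2, 1, 2, 1, 3, 1, 3, 8, 11, 7, 7, 4, 7, 2, 1, 2, 1, 3, 1, 2, 1, 3, 1, 3, 1]) (.node 31 (.leaf 16 12 [1, 3, 1, 2, 1, 2, 1, 3, 1, 3, 1, 2, 1, 10, 9, 7, 7, 1, 3, 1, 2, 1, 2, 1, 3, 1, 3, 1, 2]) (.leaf 16 25 [10, 9, 7, 7, 1, 3, 1, 2, 1, 2, 1, 3, 1, 3, 1, 2, 1, 3, 1, 2, 1, 2, 1, 3, 1, 3, 1, 2, 1])))) (.node 34 (.node 33 (.leaf 6 6 [1, 2, 1, 2, 1, 2, 1, 2, 1, 2, 1, 2, 1, 2]) (.leaf 13 26 [11, 8, 6, 5, 6, 2, 1, 3, 1, 2, 1, 3, 1, 2, 1, 3, 1, 2, 1, 2, 1, 3, 1, 2, 1, 3,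 1, 3, 1, 3, 8])) (.node 35 (.leaf 15 26 [11, 7, 7, 4, 7, 2, 1, 2, 1, 3, 1, 2, 1, 3, 1, 3, 1, 2, 1, 3, 1, 3, 1, 2, 1, 2, 1, 3, 1, 3, 8]) (.node 36 (.leaf 4 0 [7, 7, 4, 4, 6, 6, 11]) (.leaf 12 22 [7, 1, 2, 1, 3, 1, 2, 1, 3, 1, 2, 1, 3, 1, 2, 1, 2, 1, 3, 10, 4, 6, 4]))))))) (.node 56 (.node 46 (.node 41 (.node 39 (.node 38 (.leaf 16 26 [9, 7, 7, 1, 3, 1, 2, 1, 2, 1, 3, 1, 3, 1, 2, 1, 3, 1, 2, 1, 2, 1, 3, 1, 3, 1, 2, 1, 10]) (.leaf 13 27 [8, 6, 5, 6, 2, 1, 3, 1, 2, 1, 3, 1, 2, 1, 3, 1, 2, 1, 2, 1, 3, 1, 2, 1, 3, 1, 3, 1, 3, 8, 11])) (.node 40 (.leaf 14 29 [6, 4, 6, 1, 2, 1, 2, 1, 3, 1, 2, 1, 2, 1, 3, 1, 2, 1, 3, 1, 3, 1, 2, 1, 3, 1, 3, 1, 11, 8, 6, 4]) (.leaf 4 3 [4, 6, 6, 11, 7, 7, 4]))) (.node 43 (.node 42 (.leaf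 15 9 [1, 3, 1, 2, 1, 3, 1, 3, 1, 2, 1, 2, 1, 3, 1, 3, 8, 11, 7, 7, 4, 7, 2, 1, 2, 1, 3, 1, 2, 1, 3]) (.leaf 13 30 [6, 2, 1, 3, 1, 2, 1, 3, 1, 2, 1, 3, 1, 2, 1, 2, 1, 3, 1, 2, 1, 3, 1, 3, 1, 3, 8, 11, 8, 6, 5])) (.node 44 (.leaf 2 12 [1, 2, 1, 3, 1, 2, 1, 7, 1, 2, 1, 3, 1, 3, 1, 2, 1, 2, 1, 3]) (.node 45 (.leaf 15 17 [1, 2, 1, 2, 1, 3, 1, 3, 8, 11, 7, 7, 4, 7, 2, 1, 2, 1, 3, 1, 2, 1, 3, 1, 3, 1, 2, 1, 3, 1, 3]) (.leaf 13 29 [5, 6, 2, 1, 3, 1, 2, 1, 3, 1, 2, 1, 3, 1, 2, 1, 2, 1, 3, 1, 2, 1, 3, 1, 3, 1, 3, 8, 11, 8, 6]))))) (.node 51 (.node 48 (.node 47 (.leaf 14 28 [4, 6, 4, 6, 1, 2, 1, 2, 1, 3, 1, 2, 1, 2, 1, 3, 1, 2, 1, 3, 1, 3, 1, 2, 1, 3, 1, 3, 1, 11, 8, 6]) (.leaf 14 20 [1, 3, 1, 3, 1, 11, 8, 6, 4, 6, 4, 6,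 1, 2, 1, 2, 1, 3, 1, 2, 1, 2, 1, 3, 1, 2, 1, 3, 1, 3, 1, 2])) (.node 49 (.leaf 15 8 [3, 1, 3, 1, 2, 1, 3, 1, 3, 1, 2, 1, 2, 1, 3, 1, 3, 8, 11, 7, 7, 4, 7, 2, 1, 2, 1, 3, 1, 2, 1]) (.node 50 (.leaf 3 1 [4, 9, 4]) (.leaf 15 2 [2, 1, 3, 1, 2, 1, 3, 1, 3, 1, 2, 1, 3, 1, 3, 1, 2, 1, 2, 1, 3, 1, 3, 8, 11, 7, 7, 4, 7, 2, 1])))) (.node 53 (.node 52 (.leaf 2 2 [1, 3, 1, 3, 1, 2, 1, 2, 1, 3, 1, 2, 1, 3, 1, 2, 1, 7, 1, 2]) (.leaf 15 25 [8, 11, 7, 7, 4, 7, 2, 1, 2, 1, 3, 1, 2, 1, 3, 1, 3, 1, 2, 1, 3, 1, 3, 1, 2, 1, 2, 1, 3, 1, 3])) (.node 54 (.leaf 16 27 [7, 7, 1, 3, 1, 2, 1, 2, 1, 3, 1, 3, 1, 2, 1, 3, 1, 2, 1, 2, 1, 3, 1, 3, 1, 2, 1, 10, 9]) (.node 55 (.leaf 15 7 [1, 3, 1, 3, 1, 2, 1, 3, 1, 3, 1, 2, 1, 2, 1, 3, 1, 3, 8, 11,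 7, 7, 4, 7, 2, 1, 2, 1, 3, 1, 2]) (.leaf 1 9 [1, 2, 1, 3, 1, 3, 1, 2, 5, 3, 1, 3, 1, 2, 1, 3, 1, 2])))))) (.node 65 (.node 60 (.node 58 (.node 57 (.leaf 15 10 [3, 1, 2, 1, 3, 1, 3, 1, 2, 1, 2, 1, 3, 1, 3, 8, 11, 7, 7, 4, 7, 2, 1, 2, 1, 3, 1, 2, 1, 3, 1]) (.leaf 14 25 [11, 8, 6, 4, 6, 4, 6, 1, 2, 1, 2, 1, 3, 1, 2, 1, 2, 1, 3, 1, 2, 1, 3, 1, 3, 1, 2, 1, 3, 1, 3, 1])) (.node 59 (.leaf 16 13 [3, 1, 2, 1, 2, 1, 3, 1, 3, 1, 2, 1, 10, 9, 7, 7, 1, 3, 1, 2, 1, 2, 1, 3, 1, 3, 1, 2, 1]) (.leaf 16 6 [1, 3, 1, 3, 1, 2, 1, 3, 1, 2, 1, 2, 1, 3, 1, 3, 1, 2, 1, 10, 9, 7, 7, 1, 3, 1, 2, 1, 2]))) (.node 62 (.node 61 (.leaf 12 21 [4, 7, 1, 2, 1, 3, 1, 2, 1, 3, 1, 2, 1, 3, 1, 2, 1, 2, 1, 3, 10, 4, 6]) (.leaf 1 0 [3, 1, 3, 1, 2, 1,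 3, 1, 2, 1, 2, 1, 3, 1, 3, 1, 2, 5])) (.node 63 (.leaf 13 28 [6, 5, 6, 2, 1, 3, 1, 2, 1, 3, 1, 2, 1, 3, 1, 2, 1, 2, 1, 3, 1, 2, 1, 3, 1, 3, 1, 3, 8, 11, 8]) (.node 64 (.leaf 6 2 [1, 2, 1, 2, 1, 2, 1, 2, 1, 2, 1, 2, 1, 2]) (.leaf 14 30 [4, 6, 1, 2, 1, 2, 1, 3, 1, 2, 1, 2, 1, 3, 1, 2, 1, 3, 1, 3, 1, 2, 1, 3, 1, 3, 1, 11, 8, 6, 4, 6]))))) (.node 70 (.node 67 (.node 66 (.leaf 13 8 [2, 1, 3, 1, 2, 1, 2, 1, 3, 1, 2, 1, 3, 1, 3, 1, 3, 8, 11, 8, 6, 5, 6, 2, 1, 3, 1, 2, 1, 3, 1]) (.leaf 4 4 [6, 6, 11, 7, 7, 4, 4])) (.node 68 (.leaf 4 2 [4, 4, 6, 6, 11, 7, 7]) (.node 69 (.leaf 12 12 [1, 2, 1, 2, 1, 3, 10, 4, 6, 4, 7, 1, 2, 1, 3, 1, 2, 1, 3, 1, 2, 1, 3]) (.leaf 4 1 [7, 4, 4, 6, 6, 11, 7])))) (.node 72 (.node 71 (.leaf 13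 18 [2, 1, 3, 1, 3, 1, 3, 8, 11, 8, 6, 5, 6, 2, 1, 3, 1, 2, 1, 3, 1, 2, 1, 3, 1, 2, 1, 2, 1, 3, 1]) (.leaf 14 4 [1, 3, 1, 2, 1, 2, 1, 3, 1, 2, 1, 3, 1, 3, 1, 2, 1, 3, 1, 3, 1, 11, 8, 6, 4, 6, 4, 6, 1, 2, 1, 2])) (.node 73 (.leaf 14 17 [3, 1, 2, 1, 3, 1, 3, 1, 11, 8, 6, 4, 6, 4, 6, 1, 2, 1, 2, 1, 3, 1, 2, 1, 2, 1, 3, 1, 2, 1, 3, 1]) (.node 74 (.leaf 15 28 [7, 4, 7, 2, 1, 2, 1, 3, 1, 2, 1, 3, 1, 3, 1, 2, 1, 3, 1, 3, 1, 2, 1, 2, 1, 3, 1, 3, 8, 11, 7]) (.leaf 2 18 [1, 7, 1, 2, 1, 3, 1, 3, 1, 2, 1, 2, 1, 3, 1, 2, 1, 3, 1, 2]))))))))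

theorem b0 : allR (guardB 6 (blk fc sc rt.get Cfsg.Agent.Lib.Helper3.J2a.INV isH)) 3 0 = true := by decide +kernel
theorem c0 : allR (guardB 10 (cblk fc nc cc 1536 315 79228162514264337593543950336 gens)) 4 0 = true := by decide +kernel

theorem chkAll : ∀ j < 6, blk fc sc rt.get Cfsg.Agent.Lib.Helper3.J2a.INV isH j = true :=
  guardB_spec (D := 3) b0 (by norm_num)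

theorem clAll : ∀ jb < 10, cblk fc nc cc (256 * 6) 315 79228162514264337593543950336 gens jb = true :=
  guardB_spec (D := 4) c0 (by norm_num)

theorem hid_0 : BR_0.all (wordId (ntOf Cfsg.Agent.Lib.Helper3.J2a.ntl) 9) = true := by decide +kernel
theorem hid : BR.all (wordId (ntOf Cfsg.Agent.Lib.Helper3.J2a.ntl) 9) = true := by
  simp only [BR, List.all_append, hid_0, Bool.and_self]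

theorem card_eq : Nat.card (lgrp (vL Cfsg.Agent.Lib.Helper3.J2a.ntl Cfsg.Agent.Lib.Helper3.J2a.deg) gens) = 315 * Nat.card (lgrp (vL Cfsg.Agent.Lib.Helper3.J2a.ntl Cfsg.Agent.Lib.Helper3.J2a.deg) hl) :=
  Cfsg.Agent.Lib.Helper3.J2a.setup.level gens hl dl BR (by decide +kernel) (by decide +kernel) hid (by decide +kernel)
    (by decide +kernel) rt (by decide +kernel) isH (fun l h => of_decide_eq_true h) fc sc nc cc 6 10 315 79228162514264337593543950336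
    (by norm_num) (by norm_num) (by decide +kernel) (by decide) chkAll clAll
    0 0 14 (by norm_num [Cfsg.Agent.Lib.Helper3.J2a.deg]) (by norm_num [Cfsg.Agent.Lib.Helper3.J2a.deg]) (by decide +kernel) (by decide +kernel)

theorem ub {M : Type*} [Group M] (w : ℕ → M) (h0 : w 0 = 1) (hinv : ∀ l, w (invL Cfsg.Agent.Lib.Helper3.J2a.INV l) = (w l)⁻¹)
    (hBR : ∀ r ∈ BR, (r.map w).prod = 1)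
    (hdlr : ∀ r ∈ dl.map (fun p => p.1 ++ [p.2]), (r.map w).prod = 1) (N : ℕ) (hN : Bd w hl N) :
    Bd w gens (315 * N) :=
  level_bd w Cfsg.Agent.Lib.Helper3.J2a.INV h0 hinv gens hl dl BR (by decide +kernel) hdlr hBR (by decide +kernel) (by decide +kernel)
    rt (by decide +kernel) isH (fun l h => of_decide_eq_true h) fc sc nc cc 6 10 315 79228162514264337593543950336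
    (by norm_num) (by norm_num) (by decide +kernel) (by decide) chkAll clAll N hN

end Cfsg.Agent.Lib.Helper3.J2a.L1
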