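import Cfsg.Agent.Lib.Helper3.J2a.L2D
import Cfsg.Agent.Lib.Helper3.J2a.Net

set_option autoImplicit false
set_option maxRecDepth 100000

namespace Cfsg.Agent.Lib.Helper3.J2a.L2

open Cfsg.Agent.Lib.Helper11 Cfsg.Agent.Lib.Helper3

set_option maxHeartbeats 0
set_option Elab.async false

noncomputable def fc (i : ℕ) : ℕ := (fc0_0 i)
noncomputable def sc (i : ℕ) : ℕ := (sc0_0 i)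
noncomputable def nc (i : ℕ) : ℕ := (nc0_0 i)
noncomputable def cc (i : ℕ) : ℕ := (cc0_0 i)

def isH (l : ℕ) : Bool := decide (l ∈ [8, 10])
def gens : List ℕ := [4, 6]
def hl : List ℕ := [8, 10]
def dl : List (List ℕ × ℕ) := [([4], 5), ([6], 7), ([4, 4], 9), ([9], 8), ([7, 7, 4, 4, 6, 6], 11), ([11], 10)]
def BR_0 : List (List ℕ) := [[], [4, 4, 9], [7, 7, 4, 4, 6, 6, 11], [4, 4, 4, 4, 4, 4], [5, 5, 5, 5, 5, 5], [6, 6, 6, 6, 6, 6], [7, 7, 7, 7, 7, 7], [4, 6, 4, 6, 4, 6, 4, 6, 4, 6, 4, 6, 4, 6, 4, 6, 4, 6, 4, 6], [4, 7, 4, 7, 4, 7, 4, 7, 4, 7], [5, 6, 5, 6, 5, 6, 5, 6, 5, 6], [5, 7, 5, 7, 5, 7, 5, 7, 5, 7, 5, 7, 5, 7, 5, 7, 5, 7, 5, 7], [4, 4, 6, 4, 4, 6, 4, 4, 6, 4, 4, 6, 4, 4, 6, 4, 4, 6, 4, 4, 6, 4, 4, 6,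 4, 4, 6, 4, 4, 6], [4, 4, 7, 4, 4, 7, 4, 4, 7, 4, 4, 7, 4, 4, 7], [4, 6, 6, 4, 6, 6, 4, 6, 6, 4, 6, 6, 4, 6, 6], [4, 7, 7, 4, 7, 7, 4, 7, 7, 4, 7, 7, 4, 7, 7, 4, 7, 7, 4, 7, 7, 4, 7, 7, 4, 7, 7, 4, 7, 7], [5, 5, 6, 5, 5, 6, 5, 5, 6, 5, 5, 6, 5, 5, 6], [5, 5, 7, 5, 5, 7, 5, 5, 7, 5, 5, 7, 5, 5, 7, 5, 5, 7, 5, 5, 7, 5, 5, 7, 5, 5, 7, 5, 5, 7], [5, 6, 6, 5, 6, 6, 5, 6, 6, 5, 6, 6, 5, 6, 6, 5, 6, 6, 5, 6, 6, 5, 6, 6, 5, 6, 6, 5, 6, 6], [5, 7, 7, 5, 7, 7, 5, 7, 7, 5, 7, 7, 5, 7, 7], [4, 4, 4, 6, 4, 4, 4, 6, 4, 4, 4, 6, 4, 4, 4, 6, 4, 4, 4, 6, 4, 4, 4, 6], [4, 4, 4, 7, 4, 4, 4, 7, 4, 4, 4, 7, 4, 4, 4, 7, 4, 4, 4, 7, 4, 4, 4, 7], [4, 4, 6, 6, 4, 4, 6, 6, 4, 4, 6, 6, 4, 4, 6, 6, 4, 4, 6, 6], [4, 4, 7, 7, 4, 4, 7,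 7, 4, 4, 7, 7, 4, 4, 7, 7, 4, 4, 7, 7], [4, 6, 4, 7, 4, 6, 4, 7, 4, 6, 4, 7, 4, 6, 4, 7, 4, 6, 4, 7, 4, 6, 4, 7, 4, 6, 4, 7, 4, 6, 4, 7], [4, 6, 5, 6, 4, 6, 5, 6, 4, 6, 5, 6, 4, 6, 5, 6, 4, 6, 5, 6, 4, 6, 5, 6, 4, 6, 5, 6, 4, 6, 5, 6], [4, 6, 6, 6, 4, 6, 6, 6, 4, 6, 6, 6, 4, 6, 6, 6, 4, 6, 6, 6, 4, 6, 6, 6], [4, 7, 5, 7, 4, 7, 5, 7, 4, 7, 5, 7, 4, 7, 5, 7, 4, 7, 5, 7, 4, 7, 5, 7, 4, 7, 5, 7, 4, 7, 5, 7], [4, 7, 7, 7, 4, 7, 7, 7, 4, 7, 7, 7, 4, 7, 7, 7, 4, 7, 7, 7, 4, 7, 7, 7], [5, 5, 5, 6, 5, 5, 5, 6, 5, 5, 5, 6, 5, 5, 5, 6, 5, 5, 5, 6, 5, 5, 5, 6], [5, 5, 6, 6, 5, 5, 6, 6, 5, 5, 6, 6, 5, 5, 6, 6, 5, 5, 6, 6], [5, 5, 7, 7, 5, 5, 7, 7, 5, 5, 7, 7, 5, 5, 7, 7, 5, 5, 7, 7], [5, 6, 5, 7, 5, 6, 5, 7, 5, 6, 5, 7,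 5, 6, 5, 7, 5, 6, 5, 7, 5, 6, 5, 7, 5, 6, 5, 7, 5, 6, 5, 7], [5, 6, 6, 6, 5, 6, 6, 6, 5, 6, 6, 6, 5, 6, 6, 6, 5, 6, 6, 6, 5, 6, 6, 6], [5, 7, 7, 7, 5, 7, 7, 7, 5, 7, 7, 7, 5, 7, 7, 7, 5, 7, 7, 7, 5, 7, 7, 7], [6, 6, 5, 6, 4, 6, 5, 11], [7, 5, 7, 4, 7, 7, 5, 8, 11, 8], [4, 7, 5, 5, 6, 4, 4, 6, 8, 11], [6, 4, 6, 4, 4, 6, 4, 6, 8]]
def BR : List (List ℕ) := BR_0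
set_option maxRecDepth 10000000 in
noncomputable def rt : RT := (.node 55 (.node 27 (.node 13 (.node 6 (.node 3 (.node 1 (.leaf 0 0 []) (.node 2 (.leaf 1 1 [4, 9, 4]) (.leaf 1 2 [9, 4, 4]))) (.node 4 (.leaf 2 6 [11, 7, 7, 4, 4, 6, 6]) (.node 5 (.leaf 8 5 [7, 4, 7, 4, 7, 4, 7, 4, 7, 4]) (.leaf 5 3 [6, 6, 6, 6, 6, 6])))) (.node 9 (.node 7 (.leaf 2 3 [4, 6, 6, 11, 7, 7, 4]) (.node 8 (.leaf 3 3 [4, 4, 4, 4, 4, 4]) (.leaf 34 3 [6, 4, 6, 5, 11, 6, 6, 5]))) (.node 11 (.node 10 (.leaf 34 7 [11, 6, 6, 5, 6, 4, 6, 5]) (.leaf 34 4 [4, 6, 5, 11, 6, 6, 5, 6])) (.node 12 (.leaf 35 3 [4, 7, 7, 5, 8, 11, 8, 7, 5, 7]) (.leaf 35 8 [11, 8, 7, 5, 7, 4, 7, 7, 5, 8]))))) (.node 20 (.node 16 (.node 14 (.leaf 36 4 [6, 4, 4, 6, 8,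 11, 4, 7, 5, 5]) (.node 15 (.leaf 36 9 [11, 4, 7, 5, 5, 6, 4, 4, 6, 8]) (.leaf 8 3 [7, 4, 7, 4, 7, 4, 7, 4, 7, 4]))) (.node 18 (.node 17 (.leaf 36 8 [8, 11, 4, 7, 5, 5, 6, 4, 4, 6]) (.leaf 1 0 [4, 4, 9])) (.node 19 (.leaf 3 5 [4, 4, 4, 4, 4, 4]) (.leaf 8 9 [7, 4, 7, 4, 7, 4, 7, 4, 7, 4])))) (.node 23 (.node 21 (.leaf 35 1 [5, 7, 4, 7, 7, 5, 8, 11, 8, 7]) (.node 22 (.leaf 6 4 [7, 7, 7, 7, 7, 7]) (.leaf 36 2 [5, 5, 6, 4, 4, 6, 8, 11, 4, 7]))) (.node 25 (.node 24 (.leaf 3 4 [4, 4, 4, 4, 4, 4]) (.leaf 34 6 [5, 11, 6, 6, 5, 6, 4, 6])) (.node 26 (.leaf 30 0 [5, 5, 7, 7, 5, 5, 7, 7, 5, 5, 7, 7, 5, 5, 7, 7, 5, 5, 7, 7]) (.leaf 35 9 [8, 7, 5, 7, 4, 7, 7, 5, 8, 11])))))) (.node 41 (.node 34 (.node 30 (.node 28 (.leaf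 3 2 [4, 4, 4, 4, 4, 4]) (.node 29 (.leaf 36 6 [4, 6, 8, 11, 4, 7, 5, 5, 6, 4]) (.leaf 12 3 [4, 4, 7, 4, 4, 7, 4, 4, 7, 4, 4, 7, 4, 4, 7]))) (.node 32 (.node 31 (.leaf 13 9 [4, 6, 6, 4, 6, 6, 4, 6, 6, 4, 6, 6, 4, 6, 6]) (.leaf 37 4 [4, 6, 4, 6, 8, 6, 4, 6, 4])) (.node 33 (.leaf 37 6 [4, 6, 8, 6, 4, 6, 4, 4, 6]) (.leaf 37 8 [8, 6, 4, 6, 4, 4, 6, 4, 6])))) (.node 37 (.node 35 (.leaf 37 3 [4, 4, 6, 4, 6, 8, 6, 4, 6]) (.node 36 (.leaf 37 5 [6, 4, 6, 8, 6, 4, 6, 4, 4]) (.leaf 37 2 [6, 4, 4, 6, 4, 6, 8, 6, 4]))) (.node 39 (.node 38 (.leaf 13 14 [6, 4, 6, 6, 4, 6, 6, 4, 6, 6, 4, 6, 6, 4, 6]) (.leaf 21 15 [6, 4, 4, 6, 6, 4, 4, 6, 6, 4, 4, 6, 6, 4, 4, 6, 6, 4, 4, 6])) (.node 40 (.leaf 34 0 [6, 6, 5, 6, 4, 6, 5, 11])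 (.leaf 19 17 [4, 4, 6, 4, 4, 4, 6, 4, 4, 4, 6, 4, 4, 4, 6, 4, 4, 4, 6, 4, 4, 4, 6, 4]))))) (.node 48 (.node 44 (.node 42 (.leaf 36 7 [6, 8, 11, 4, 7, 5, 5, 6, 4, 4]) (.node 43 (.leaf 12 1 [4, 7, 4, 4, 7, 4, 4, 7, 4, 4, 7, 4, 4, 7, 4]) (.leaf 4 4 [5, 5, 5, 5, 5, 5]))) (.node 46 (.node 45 (.leaf 2 0 [7, 7, 4, 4, 6, 6, 11]) (.leaf 5 4 [6, 6, 6, 6, 6, 6])) (.node 47 (.leaf 2 2 [4, 4, 6, 6, 11, 7, 7]) (.leaf 36 3 [5, 6, 4, 4, 6, 8, 11, 4, 7, 5])))) (.node 51 (.node 49 (.leaf 2 1 [7, 4, 4, 6, 6, 11, 7]) (.node 50 (.leaf 25 11 [6, 4, 6, 6, 6, 4, 6, 6, 6, 4, 6, 6, 6, 4, 6, 6, 6, 4, 6, 6, 6, 4, 6, 6]) (.leaf 5 5 [6, 6, 6, 6, 6, 6]))) (.node 53 (.node 52 (.leaf 15 4 [5, 6, 5, 5, 6, 5, 5, 6, 5, 5, 6, 5, 5, 6, 5]) (.leaf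 2 4 [6, 6, 11, 7, 7, 4, 4])) (.node 54 (.leaf 33 4 [5, 7, 7, 7, 5, 7, 7, 7, 5, 7, 7, 7, 5, 7, 7, 7, 5, 7, 7, 7, 5, 7, 7, 7]) (.leaf 34 1 [6, 5, 6, 4, 6, 5, 11, 6]))))))) (.node 82 (.node 68 (.node 61 (.node 58 (.node 56 (.leaf 37 1 [4, 6, 4, 4, 6, 4, 6, 8, 6]) (.node 57 (.leaf 12 12 [4, 4, 7, 4, 4, 7, 4, 4, 7, 4, 4, 7, 4, 4, 7]) (.leaf 20 7 [7, 4, 4, 4, 7, 4, 4, 4, 7, 4, 4, 4, 7, 4, 4, 4, 7, 4, 4, 4, 7, 4, 4, 4]))) (.node 59 (.leaf 37 0 [6, 4, 6, 4, 4, 6, 4, 6, 8]) (.node 60 (.leaf 18 10 [7, 7, 5, 7, 7, 5, 7, 7, 5, 7, 7, 5, 7, 7, 5]) (.leaf 8 2 [4, 7, 4, 7, 4, 7, 4, 7, 4, 7])))) (.node 64 (.node 62 (.leaf 10 5 [7, 5, 7, 5, 7, 5, 7, 5, 7, 5, 7, 5, 7, 5, 7, 5, 7, 5, 7, 5]) (.node 63 (.leaf 5 1 [6, 6, 6, 6, 6,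 6]) (.leaf 32 5 [6, 6, 6, 5, 6, 6, 6, 5, 6, 6, 6, 5, 6, 6, 6, 5, 6, 6, 6, 5, 6, 6, 6, 5]))) (.node 66 (.node 65 (.leaf 34 5 [6, 5, 11, 6, 6, 5, 6, 4]) (.leaf 22 4 [4, 4, 7, 7, 4, 4, 7, 7, 4, 4, 7, 7, 4, 4, 7, 7, 4, 4, 7, 7])) (.node 67 (.leaf 9 2 [5, 6, 5, 6, 5, 6, 5, 6, 5, 6]) (.leaf 10 3 [7, 5, 7, 5, 7, 5, 7, 5, 7, 5, 7, 5, 7, 5, 7, 5, 7, 5, 7, 5]))))) (.node 75 (.node 71 (.node 69 (.leaf 17 21 [5, 6, 6, 5, 6, 6, 5, 6, 6, 5, 6, 6, 5, 6, 6, 5, 6, 6, 5, 6, 6, 5, 6, 6, 5, 6, 6, 5, 6, 6]) (.node 70 (.leaf 29 10 [6, 6, 5, 5, 6, 6, 5, 5, 6, 6, 5, 5, 6, 6, 5, 5, 6, 6, 5, 5]) (.leaf 12 9 [4, 4, 7, 4, 4, 7, 4, 4, 7, 4, 4, 7, 4, 4, 7]))) (.node 73 (.node 72 (.leaf 35 2 [7, 4, 7, 7, 5, 8, 11, 8, 7, 5]) (.leaf 6 5 [7,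 7, 7, 7, 7, 7])) (.node 74 (.leaf 27 0 [4, 7, 7, 7, 4, 7, 7, 7, 4, 7, 7, 7, 4, 7, 7, 7, 4, 7, 7, 7, 4, 7, 7, 7]) (.leaf 30 12 [5, 5, 7, 7, 5, 5, 7, 7, 5, 5, 7, 7, 5, 5, 7, 7, 5, 5, 7, 7])))) (.node 78 (.node 76 (.leaf 29 5 [5, 6, 6, 5, 5, 6, 6, 5, 5, 6, 6, 5, 5, 6, 6, 5, 5, 6, 6, 5]) (.node 77 (.leaf 13 13 [6, 6, 4, 6, 6, 4, 6, 6, 4, 6, 6, 4, 6, 6, 4]) (.leaf 21 17 [4, 6, 6, 4, 4, 6, 6, 4, 4, 6, 6, 4, 4, 6, 6, 4, 4, 6, 6, 4]))) (.node 80 (.node 79 (.leaf 25 14 [6, 6, 4, 6, 6, 6, 4, 6, 6, 6, 4, 6, 6, 6, 4, 6, 6, 6, 4, 6, 6, 6, 4, 6]) (.leaf 32 14 [6, 6, 5, 6, 6, 6, 5, 6, 6, 6, 5, 6, 6, 6, 5, 6, 6, 6, 5, 6, 6, 6, 5, 6])) (.node 81 (.leaf 19 15 [6, 4, 4, 4, 6, 4, 4, 4, 6, 4, 4, 4, 6, 4, 4, 4, 6, 4, 4, 4, 6, 4,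 4, 4]) (.leaf 20 20 [4, 4, 4, 7, 4, 4, 4, 7, 4, 4, 4, 7, 4, 4, 4, 7, 4, 4, 4, 7, 4, 4, 4, 7])))))) (.node 96 (.node 89 (.node 85 (.node 83 (.leaf 27 17 [7, 7, 7, 4, 7, 7, 7, 4, 7, 7, 7, 4, 7, 7, 7, 4, 7, 7, 7, 4, 7, 7, 7, 4]) (.node 84 (.leaf 10 19 [7, 5, 7, 5, 7, 5, 7, 5, 7, 5, 7, 5, 7, 5, 7, 5, 7, 5, 7, 5]) (.leaf 22 12 [4, 4, 7, 7, 4, 4, 7, 7, 4, 4, 7, 7, 4, 4, 7, 7, 4, 4, 7, 7]))) (.node 87 (.node 86 (.leaf 30 6 [7, 7, 5, 5, 7, 7, 5, 5, 7, 7, 5, 5, 7, 7, 5, 5, 7, 7, 5, 5]) (.leaf 11 27 [4, 4, 6, 4, 4, 6, 4, 4, 6, 4, 4, 6, 4, 4, 6, 4, 4, 6, 4, 4, 6, 4, 4, 6, 4, 4, 6, 4, 4, 6])) (.node 88 (.leaf 7 9 [6, 4, 6, 4, 6, 4, 6, 4, 6, 4, 6, 4, 6, 4, 6, 4, 6, 4, 6, 4]) (.leaf 12 10 [4, 7, 4, 4, 7, 4, 4, 7, 4, 4,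 7, 4, 4, 7, 4])))) (.node 92 (.node 90 (.leaf 14 10 [7, 7, 4, 7, 7, 4, 7, 7, 4, 7, 7, 4, 7, 7, 4, 7, 7, 4, 7, 7, 4, 7, 7, 4, 7, 7, 4, 7, 7, 4]) (.node 91 (.leaf 22 13 [4, 7, 7, 4, 4, 7, 7, 4, 4, 7, 7, 4, 4, 7, 7, 4, 4, 7, 7, 4]) (.leaf 26 18 [5, 7, 4, 7, 5, 7, 4, 7, 5, 7, 4, 7, 5, 7, 4, 7, 5, 7, 4, 7, 5, 7, 4, 7, 5, 7, 4, 7, 5, 7, 4, 7]))) (.node 94 (.node 93 (.leaf 9 4 [5, 6, 5, 6, 5, 6, 5, 6, 5, 6]) (.leaf 16 17 [7, 5, 5, 7, 5, 5, 7, 5, 5, 7, 5, 5, 7, 5, 5, 7, 5, 5, 7, 5, 5, 7, 5, 5, 7, 5, 5, 7, 5, 5])) (.node 95 (.leaf 28 4 [5, 5, 5, 6, 5, 5, 5, 6, 5, 5, 5, 6, 5, 5, 5, 6, 5, 5, 5, 6, 5, 5, 5, 6]) (.leaf 29 8 [5, 5, 6, 6, 5, 5, 6, 6, 5, 5, 6, 6, 5, 5, 6, 6, 5, 5, 6, 6]))))) (.node 103 (.node 99 (.node 97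 (.leaf 32 11 [6, 5, 6, 6, 6, 5, 6, 6, 6, 5, 6, 6, 6, 5, 6, 6, 6, 5, 6, 6, 6, 5, 6, 6]) (.node 98 (.leaf 33 10 [7, 7, 5, 7, 7, 7, 5, 7, 7, 7, 5, 7, 7, 7, 5, 7, 7, 7, 5, 7, 7, 7, 5, 7]) (.leaf 14 16 [7, 7, 4, 7, 7, 4, 7, 7, 4, 7, 7, 4, 7, 7, 4, 7, 7, 4, 7, 7, 4, 7, 7, 4, 7, 7, 4, 7, 7, 4]))) (.node 101 (.node 100 (.leaf 23 20 [4, 6, 4, 7, 4, 6, 4, 7, 4, 6, 4, 7, 4, 6, 4, 7, 4, 6, 4, 7, 4, 6, 4, 7, 4, 6, 4, 7, 4, 6, 4, 7]) (.leaf 24 26 [5, 6, 4, 6, 5, 6, 4, 6, 5, 6, 4, 6, 5, 6, 4, 6, 5, 6, 4, 6, 5, 6, 4, 6, 5, 6, 4, 6, 5, 6, 4, 6])) (.node 102 (.leaf 4 3 [5, 5, 5, 5, 5, 5]) (.leaf 17 26 [6, 5, 6, 6, 5, 6, 6, 5, 6, 6, 5, 6, 6, 5, 6, 6, 5, 6, 6, 5, 6, 6, 5, 6, 6, 5, 6, 6, 5, 6])))) (.node 106 (.node 104 (.leaf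 26 20 [4, 7, 5, 7, 4, 7, 5, 7, 4, 7, 5, 7, 4, 7, 5, 7, 4, 7, 5, 7, 4, 7, 5, 7, 4, 7, 5, 7, 4, 7, 5, 7]) (.node 105 (.leaf 31 21 [6, 5, 7, 5, 6, 5, 7, 5, 6, 5, 7, 5, 6, 5, 7, 5, 6, 5, 7, 5, 6, 5, 7, 5, 6, 5, 7, 5, 6, 5, 7, 5]) (.leaf 12 4 [4, 7, 4, 4, 7, 4, 4, 7, 4, 4, 7, 4, 4, 7, 4]))) (.node 108 (.node 107 (.leaf 22 10 [7, 7, 4, 4, 7, 7, 4, 4, 7, 7, 4, 4, 7, 7, 4, 4, 7, 7, 4, 4]) (.leaf 11 19 [4, 6, 4, 4, 6, 4, 4, 6, 4, 4, 6, 4, 4, 6, 4, 4, 6, 4, 4, 6, 4, 4, 6, 4, 4, 6, 4, 4, 6, 4])) (.node 109 (.leaf 13 8 [6, 4, 6, 6, 4, 6, 6, 4, 6, 6, 4, 6, 6, 4, 6]) (.leaf 32 20 [5, 6, 6, 6, 5, 6, 6, 6, 5, 6, 6, 6, 5, 6, 6, 6, 5, 6, 6, 6, 5, 6, 6, 6]))))))))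

theorem b0 : allR (guardB 4 (blk fc sc rt.get Cfsg.Agent.Lib.Helper3.J2a.INV isH)) 2 0 = true := by decide +kernel
theorem c0 : allR (guardB 5 (cblk fc nc cc 1024 160 79228162514264337593543950336 gens)) 3 0 = true := by decide +kernel

theorem chkAll : ∀ j < 4, blk fc sc rt.get Cfsg.Agent.Lib.Helper3.J2a.INV isH j = true :=
  guardB_spec (D := 2) b0 (by norm_num)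

theorem clAll : ∀ jb < 5, cblk fc nc cc (256 * 4) 160 79228162514264337593543950336 gens jb = true :=
  guardB_spec (D := 3) c0 (by norm_num)

theorem hid_0 : BR_0.all (wordId (ntOf Cfsg.Agent.Lib.Helper3.J2a.ntl) 9) = true := by decide +kernel
theorem hid : BR.all (wordId (ntOf Cfsg.Agent.Lib.Helper3.J2a.ntl) 9) = true := by
  simp only [BR, List.all_append, hid_0, Bool.and_self]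

theorem card_eq : Nat.card (lgrp (vL Cfsg.Agent.Lib.Helper3.J2a.ntl Cfsg.Agent.Lib.Helper3.J2a.deg) gens) = 160 * Nat.card (lgrp (vL Cfsg.Agent.Lib.Helper3.J2a.ntl Cfsg.Agent.Lib.Helper3.J2a.deg) hl) :=
  Cfsg.Agent.Lib.Helper3.J2a.setup.level gens hl dl BR (by decide +kernel) (by decide +kernel) hid (by decide +kernel)
    (by decide +kernel) rt (by decide +kernel) isH (fun l h => of_decide_eq_true h) fc sc nc cc 4 5 160 79228162514264337593543950336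
    (by norm_num) (by norm_num) (by decide +kernel) (by decide) chkAll clAll
    1 1 7 (by norm_num [Cfsg.Agent.Lib.Helper3.J2a.deg]) (by norm_num [Cfsg.Agent.Lib.Helper3.J2a.deg]) (by decide +kernel) (by decide +kernel)

theorem ub {M : Type*} [Group M] (w : ℕ → M) (h0 : w 0 = 1) (hinv : ∀ l, w (invL Cfsg.Agent.Lib.Helper3.J2a.INV l) = (w l)⁻¹)
    (hBR : ∀ r ∈ BR, (r.map w).prod = 1)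
    (hdlr : ∀ r ∈ dl.map (fun p => p.1 ++ [p.2]), (r.map w).prod = 1) (N : ℕ) (hN : Bd w hl N) :
    Bd w gens (160 * N) :=
  level_bd w Cfsg.Agent.Lib.Helper3.J2a.INV h0 hinv gens hl dl BR (by decide +kernel) hdlr hBR (by decide +kernel) (by decide +kernel)
    rt (by decide +kernel) isH (fun l h => of_decide_eq_true h) fc sc nc cc 4 5 160 79228162514264337593543950336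
    (by norm_num) (by norm_num) (by decide +kernel) (by decide) chkAll clAll N hN

end Cfsg.Agent.Lib.Helper3.J2a.L2
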