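import Mathlib

set_option autoImplicit false
set_option maxRecDepth 100000

namespace Cfsg.Agent.Lib.Helper3.J2a.L3

noncomputable def fc0_0 (i : ℕ) : ℕ := (nat_lit 0x700010b0000080000ea00000300008b00000400006a0000060000aa0000050000cb00000900014a00000a00012b0000060000e80000070000c900000500014800000a0000a900000800006800000300010900000b00014b00000a00016a00000b0000e900000700016800000800012900000900010800000b00012a00000900016b0000050000890000040000a800000100004900000200002800000600016900000b0000c800000400014900000a00008800000300012800000900006900000200010a00000800004b0000020000eb00000700004a0000010000ca00000600002b0000010000ab00000500002a00000000008a00000400000b00000000006b00000300000a000000000048000002000009000000000029000001000008)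
noncomputable def sc0_0 (i : ℕ) : ℕ := (nat_lit 0x700001800000e00002100002b00002c00001600001e00001000001d00000b000b000c00000900000e00001b00002700002a000014000029000024000018000007000012000b000c00001400000e00000d00001b0000270000220000110007000b00001700000500001900002500002600001e00000e0000140008000a00001b00000e00002300002000000300000800000b0000060008000900001b00000c00002100001c0000100005000800001300001f00001c0003000700000000001300001d00001800000c0005000600000900001300001d00001a0000100005000500000d00000500001b00001600000a0005000400000500000f0000190000140000080005000300000f00001700001000030002000015000012000200010000ffff0000ffff0000ffff0000ffff0000ffff0000ffff0000ffff0000ffff0000ffff0000ffff0000ffff)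
noncomputable def nc0_0 (i : ℕ) : ℕ := (nat_lit 0xb00000a000009000008000007000006000005000004000003000002000001000000)
noncomputable def cc0_0 (i : ℕ) : ℕ := (nat_lit 0x900001b00000600001400000b00002000000400001200000a00002900000800001c00000700002e00000300002300000200000c00000b00001e00000500002b00000700002700000100000800000a00002500000300002c00000500001800000000000400000900001100000800000f00000100001600000600000b000000000000000004000007000002000003)

end Cfsg.Agent.Lib.Helper3.J2a.L3
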